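import Mathlib

/-!
# The length of a plane curve singularity cut by an element
-/

set_option autoImplicit false
set_option linter.all false

open IsLocalRing

noncomputable section

namespace GrothLib.MultDeg12

variable {A : Type*} [CommRing A] [IsLocalRing A] [IsNoetherianRing A]

theorem not_pow_le {h : A} (hh : h ∈ maximalIdeal A) (hA : (2 : WithBot ℕ∞) ≤ ringKrullDim A) (i : ℕ) :
    ¬ maximalIdeal A ^ i ≤ maximalIdeal A ^ (i + 1) ⊔ Ideal.span {h} := by
  intro hle
  have h1 : maximalIdeal A ^ i ≤ Ideal.span {h} := by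
    refine Submodule.le_of_le_smul_of_le_jacobson_bot (I := maximalIdeal A) (IsNoetherian.noetherian _)
      (maximalIdeal_le_jacobson _) (hle.trans (le_of_eq ?_))
    rw [pow_succ', sup_comm, smul_eq_mul]
  have h2 : maximalIdeal A ∈ (Ideal.span {h}).minimalPrimes := by
    refine ⟨⟨inferInstance, (Ideal.span_singleton_le_iff_mem _).2 hh⟩, fun P hP _ a ha => ?_⟩
    exact hP.1.mem_of_pow_mem i (hP.2 (h1 (Ideal.pow_mem_pow ha i)))
  have h3 := Ideal.height_le_one_of_isPrincipal_of_mem_minimalPrimes _ _ h2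
  rw [← IsLocalRing.maximalIdeal_height_eq_ringKrullDim] at hA
  exact absurd (le_trans (WithBot.coe_le_coe.1 (show ((2 : ℕ∞) : WithBot ℕ∞) ≤ ((maximalIdeal A).height : WithBot ℕ∞) from hA)) h3) (by norm_num)

/-- At least `m` layers. -/
theorem le_finrank_quotient {k R : Type*} [Field k] [CommRing R] [Algebra k R] (φ : A →+* R)
    (hφ : Function.Surjective φ) {m : ℕ} (hker : RingHom.ker φ ≤ maximalIdeal A ^ m) {h : A}
    (hh : h ∈ maximalIdeal A) (hA : (2 : WithBot ℕ∞) ≤ ringKrullDim A)
    [Module.Finite k (R ⧸ Ideal.span {φ h})] : m ≤ Module.finrank k (R ⧸ Ideal.span {φ h}) := by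
  let ψ : A →+* R ⧸ Ideal.span {φ h} := (Ideal.Quotient.mk _).comp φ
  have hψ : Function.Surjective ψ := Ideal.Quotient.mk_surjective.comp hφ
  have hkψ : RingHom.ker ψ = Ideal.span {h} ⊔ RingHom.ker φ := by
    show RingHom.ker ((Ideal.Quotient.mk _).comp φ) = _
    rw [← RingHom.comap_ker, Ideal.mk_ker, show Ideal.span {φ h} = (Ideal.span {h}).map φ by
      rw [Ideal.map_span, Set.image_singleton], Ideal.comap_map_of_surjective φ hφ]
    rfl
  let K : ℕ → Submodule k (R ⧸ Ideal.span {φ h}) := fun i => ((maximalIdeal A ^ i).map ψ).restrictScalars k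
  have hlt : ∀ i, i < m → K (i + 1) < K i := by
    intro i hi
    refine lt_of_le_of_ne (fun a ha => Ideal.map_mono (Ideal.pow_le_pow_right i.le_succ) ha) fun e => ?_
    refine not_pow_le hh hA i fun a ha => ?_
    have h1 : ψ a ∈ (maximalIdeal A ^ (i + 1)).map ψ :=
      (show ψ a ∈ K (i + 1) from e.ge (Ideal.mem_map_of_mem _ ha))
    have h2 : a ∈ ((maximalIdeal A ^ (i + 1)).map ψ).comap ψ := h1
    rw [Ideal.comap_map_of_surjective ψ hψ, ← RingHom.ker_eq_comap_bot, hkψ] at h2
    refine (sup_le le_sup_left (sup_le le_sup_right ?_) : maximalIdeal A ^ (i + 1) ⊔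
      (Ideal.span {h} ⊔ RingHom.ker φ) ≤ maximalIdeal A ^ (i + 1) ⊔ Ideal.span {h}) h2
    exact le_trans (hker.trans (Ideal.pow_le_pow_right hi)) le_sup_left
  have key : ∀ j i, i + j = m → j ≤ Module.finrank k (K i) := by
    intro j
    induction j with
    | zero => exact fun _ _ => Nat.zero_le _
    | succ j ih =>
      intro i hij
      have h1 := ih (i + 1) (by omega)
      have h2 := Submodule.finrank_lt_finrank_of_lt (hlt i (by omega))
      omega
  exact le_trans (key m 0 (zero_add m)) (Submodule.finrank_le _)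

end GrothLib.MultDeg12
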