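import Groth.Agent.Lib.MultDeg12.Form
import Groth.Agent.Lib.MultDeg12.Len
import Groth.Agent.Lib.Euler.Divisor
import Groth.Agent.Lib.Euler.InvHom
import Groth.Agent.Lib.Euler.TensorSupport
import Groth.Agent.Lib.RelReg.Stalk
import Groth.Agent.Lib.GrpSchField.DimStalk
import Groth.Agent.Lib.FibreDimAt6.Smooth
import Groth.Agent.Lib.PointIdeal16.Main
import Groth.Agent.Lib.Quad12.Twists

/-!
# The multiplicity of a curve at a point is at most its degree
-/

set_option autoImplicit false
set_option linter.all false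
set_option backward.isDefEq.respectTransparency false
set_option maxHeartbeats 1000000

universe u

open CategoryTheory CategoryTheory.Limits AlgebraicGeometry TopologicalSpace
open GrothLib.QCoh (stalkLin)
open GrothLib.Cube (Pic clsMod pull HasCls hasCls_clsMod)

noncomputable section

namespace GrothLib.MultDeg12

attribute [local instance] Curv2.stalkAlgebra

variable (k : Type u) [Field k] {X : Scheme.{u}} [X.Over (Spec (CommRingCat.of k))]
  [IsProper (X ↘ Spec (CommRingCat.of k))]

/-- The degree bounds every local contribution. -/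
theorem finrank_le_deg (hd : topologicalKrullDim X ≤ 1) {D : X.IdealSheafData}
    (hD : _root_.BlowUp.IsEffCartierIdeal D) {L : X.Modules} (hL : PicF.IsInvertible L)
    (hLD : ClSub.IsInverseOf L (ClSub.idealMod D)) (y : X) :
    Module.Finite k (X.presheaf.stalk y ⧸ Goodman.st D y) ∧
      (Module.finrank k (X.presheaf.stalk y ⧸ Goodman.st D y) : ℤ) ≤ Curv2.deg k X L 1 := by
  haveI := Euler.isNoetherian_of_proper (X := X) k
  obtain ⟨hfin, hcl⟩ := Euler.divisor_finite_closed k hd hD
  have hQ : Coh.IsCoh (ClSub.quotMod D) := QCoh.pushUnit_isCoh D.subschemeι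
  have hsupp : CohB1.support (ClSub.quotMod D) ⊆ (D.support : Set X) := by
    rw [← D.range_subschemeι]
    exact QCoh.support_pushforward_subset_range D.subschemeι _
  haveI := Euler.finiteDimensional_HH k hQ 0
  haveI := Euler.epi_toSubscheme D
  let R := X.presheaf.stalk y
  let β : R →ₗ[R] (ClSub.quotMod D).presheaf.stalk y :=
    (stalkLin (ClSub.toSubscheme D) y).comp (HomSh.unitStalk y).toLinearMap
  have hβs : Function.Surjective β :=
    (QCoh.stalkLin_surjective (ClSub.toSubscheme D) y).comp (HomSh.unitStalk y).surjective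
  have hβk : LinearMap.ker β = Goodman.st D y := by
    ext a
    constructor
    · intro ha
      obtain ⟨v, hv⟩ := (ShortComplex.moduleCat_exact_iff _).1 ((OX.exact_iff (ShortComplex.mk _ _
        (kernel.condition (ClSub.toSubscheme D)))).1
        (ShortComplex.exact_of_f_is_kernel _ (kernelIsKernel (ClSub.toSubscheme D))) y) (HomSh.unitStalk y a) ha
      exact ⟨v, (HomSh.unitStalk y).injective ((Goodman.stalkLin_idealModι D y v).symm.trans hv)⟩
    · rintro ⟨v, rfl⟩
      show stalkLin (ClSub.toSubscheme D) y (HomSh.unitStalk y _) = 0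
      rw [← Goodman.stalkLin_idealModι, ← QCoh.stalkLin_comp]
      have h0 : ClSub.idealModι D ≫ ClSub.toSubscheme D = 0 := kernel.condition _
      rw [h0]
      exact GenHom20.stalkLin_zero _ _
  let e : (R ⧸ Goodman.st D y) ≃ₗ[R] (ClSub.quotMod D).presheaf.stalk y :=
    (Submodule.quotEquivOfEq _ _ hβk.symm).trans (β.quotKerEquivOfSurjective hβs)
  let Φ : Coh.HH X (ClSub.quotMod D) 0 →ₗ[k] R ⧸ Goodman.st D y :=
    { toFun := fun h => e.symm ((ClSub.quotMod D).presheaf.germ ⊤ y trivial (ProjCoh.H0top _ h))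
      map_add' := fun a b => by simp only [map_add]
      map_smul' := fun a b => by
        rw [Euler.germ_H0top_smul, map_smul, RingHom.id_apply]
        exact algebraMap_smul R a _ }
  have hΦ : Function.Surjective Φ := fun v => by
    suffices ∃ s, (ClSub.quotMod D).presheaf.germ ⊤ y trivial s = e v by
      obtain ⟨s, hs⟩ := this
      obtain ⟨h, rfl⟩ := (ProjCoh.H0top (ClSub.quotMod D)).surjective s
      exact ⟨h, (congrArg e.symm hs).trans (e.symm_apply_apply v)⟩
    by_cases hy : y ∈ CohB1.support (ClSub.quotMod D)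
    · classical
      obtain ⟨s, hs⟩ := (Euler.bijective_germs _ (hfin.subset hsupp) fun x hx => hcl x (hsupp hx)).2
        (Function.update 0 ⟨y, hy⟩ (e v))
      exact ⟨s, (congrFun hs ⟨y, hy⟩).trans (Function.update_self _ _ _)⟩
    · haveI := QCoh.stalk_subsingleton_of_notMem hy
      exact ⟨0, Subsingleton.elim _ _⟩
  refine ⟨Module.Finite.of_surjective Φ hΦ, ?_⟩
  have h1 := Euler.deg_tensor_effCartier k hd hD hL hLD
    (Euler.isFinLocFreeOfRank_one' (Euler.isInvertible_structure (X := X)))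
  have e0 : CohB1.tensorMod (Coh.structureModule X) L ≅ L := OX.tensorUnitLeftIso L
  rw [Euler.deg_of_iso k e0, show Curv2.deg k X (Coh.structureModule X) 1 = 0 by simp [Curv2.deg], Nat.cast_one, one_mul, add_zero] at h1
  rw [h1]
  exact_mod_cast LinearMap.finrank_le_finrank_of_surjective hΦ

variable {k} [IsAlgClosed k] {n : ℕ} {S C : Scheme.{u}} [S.Over (Spec (CommRingCat.of k))]
  [C.Over (Spec (CommRingCat.of k))]

/-- The multiplicity at a point is at most the degree. -/
theorem mult_le_deg [IsIntegral S] [SmoothOfRelativeDimension 2 (S ↘ Spec (CommRingCat.of k))]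
    (ι : S ⟶ CohB1.ProjSpace n k) [IsClosedImmersion ι]
    (hι : ι ≫ CohB1.ProjSpace.toSpec n k = S ↘ Spec (CommRingCat.of k))
    [IsIntegral C] (hdimC : topologicalKrullDim ↥C = 1) (j : C ⟶ S) [IsClosedImmersion j]
    (hj : j ≫ (S ↘ Spec (CommRingCat.of k)) = C ↘ Spec (CommRingCat.of k))
    (P : ↥S) (hP : IsClosed ({P} : Set ↥S)) (m : ℕ)
    (hm : j.ker ≤ Scheme.IdealSheafData.vanishingIdeal ⟨{P}, hP⟩ ^ m) :
    (m : ℤ) ≤ Curv2.deg k C ((Scheme.Modules.pullback j).obj
      ((Scheme.Modules.pullback ι).obj (Twist.twistProjSpace n k 1))) 1 := by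
  letI : (CohB1.ProjSpace n k).Over (Spec (CommRingCat.of k)) := ⟨CohB1.ProjSpace.toSpec n k⟩
  haveI : IsProper (CohB1.ProjSpace n k ↘ Spec (CommRingCat.of k)) := Chow.isProper_toSpec n k
  haveI : IsProper (S ↘ Spec (CommRingCat.of k)) := by
    haveI := Chow.isProper_toSpec n k
    rw [← hι]; infer_instance
  haveI : IsProper (C ↘ Spec (CommRingCat.of k)) := by rw [← hj]; infer_instance
  haveI := Euler.isNoetherian_of_proper (X := S) k
  haveI := Euler.isNoetherian_of_proper (X := C) k
  haveI : IsIntegral (CohB1.ProjSpace n k) := ProjDim.isIntegral_proj k n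
  let g := j ≫ ι
  have hginj : Function.Injective g := g.isClosedEmbedding.injective
  -- the chosen point
  obtain ⟨y, hy, hyP⟩ : ∃ y : C, IsClosed ({y} : Set C) ∧ (1 ≤ m → j y = P) := by
    rcases Nat.eq_zero_or_pos m with rfl | hm1
    · obtain ⟨c, -, hc⟩ := IsClosed.exists_closed_singleton (isClosed_univ (X := C)) Set.univ_nonempty
      exact ⟨c, hc, fun h => by omega⟩
    · obtain ⟨y, hy⟩ : P ∈ Set.range j := by
        by_contra hP'
        have h1 : Goodman.st j.ker P = ⊤ := Goodman.st_of_notMem _ (by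
          rw [Scheme.Hom.support_ker, j.isClosedEmbedding.isClosed_range.closure_eq]
          exact hP')
        obtain ⟨V, hV, hPV, -⟩ := exists_isAffineOpen_mem_and_subset (show P ∈ (⊤ : S.Opens) from trivial)
        have h2 : Goodman.st j.ker P ≤ Goodman.st (Scheme.IdealSheafData.vanishingIdeal ⟨{P}, hP⟩ ^ m) P := by
          rw [Goodman.st_eq _ ⟨V, hV⟩ hPV, Goodman.st_eq _ ⟨V, hV⟩ hPV]
          exact Ideal.map_mono (hm ⟨V, hV⟩)
        rw [h1, Goodman.st_pow, PointIdeal16.st_ptI hP] at h2
        exact Ideal.IsPrime.ne_top inferInstance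
          (top_le_iff.1 (h2.trans (Ideal.pow_le_self (by omega))))
      refine ⟨y, ?_, fun _ => hy⟩
      have h := hP.preimage j.continuous
      rwa [show j ⁻¹' {P} = {y} from Set.ext fun w => ⟨fun hw => j.isClosedEmbedding.injective (hw.trans hy.symm),
        fun hw => by rw [hw]; exact hy⟩] at h
  have hgy : IsClosed ({g y} : Set ↥(CohB1.ProjSpace n k)) := by
    simpa using g.isClosedEmbedding.isClosedMap _ hy
  have hgen : genericPoint C ≠ y := fun h => by
    haveI : Subsingleton C := ⟨fun a b => by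
      have e : ∀ c : C, c = y := fun c => (h ▸ genericPoint_specializes c : y ⤳ c).mem_closed hy rfl
      rw [e a, e b]⟩
    haveI : Subsingleton (IrreducibleCloseds C) := ⟨fun A B => IrreducibleCloseds.ext (by
      show (A.carrier : Set _) = B.carrier
      rw [A.2.1.eq_univ, B.2.1.eq_univ])⟩
    have h0 : topologicalKrullDim ↥C ≤ 0 := Order.krullDim_nonpos_of_subsingleton
    rw [hdimC] at h0
    norm_num at h0
  obtain ⟨G, hGy, hGη⟩ := exists_form hgy ((genericPoint_specializes y).map g.continuous) (fun h => hgen (hginj h))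
  have hG : G ≠ 0 := by
    rintro rfl
    refine hGη ((CI20.mem_support_hyp _ _).2 ?_)
    rw [show ((0 : LefPen.Form n k 1).1 : MvPolynomial (Fin (n + 1)) k) = 0 from rfl]
    exact zero_mem _
  obtain ⟨i, hi⟩ : ∃ i, g y ∈ LefPen.chart n k i :=
    Opens.mem_iSup.1 ((Ample.ProjMap.iSup_basicOpen_X n k).ge (Opens.mem_top (g y)))
  let U : (CohB1.ProjSpace n k).affineOpens := ⟨LefPen.chart n k i, HypSurf.isAffineOpen_chart i⟩
  have hH : _root_.BlowUp.IsEffCartierIdeal (LefPen.hypIdeal G) := fun z => by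
    obtain ⟨l, hl⟩ := Opens.mem_iSup.1 ((Ample.ProjMap.iSup_basicOpen_X n k).ge (Opens.mem_top z))
    let W : (CohB1.ProjSpace n k).affineOpens := ⟨LefPen.chart n k l, HypSurf.isAffineOpen_chart l⟩
    haveI : Nonempty W.1 := ⟨⟨z, hl⟩⟩
    refine ⟨W, hl, LefPen.dehom G l, mem_nonZeroDivisors_of_ne_zero fun h0 => hGη ?_,
      (HypSurf.hypIdeal_ideal_eq G W l le_rfl).trans (by rw [Ample.res_self])⟩
    have h1 : ∀ x ∈ W.1, x ∈ (LefPen.hypIdeal G).support := fun x hx => by
      rw [Scheme.IdealSheafData.mem_support_iff_of_mem (U := W) hx, HypSurf.hypIdeal_ideal_eq G W l le_rfl,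
        Ample.res_self, h0, Scheme.zeroLocus_span, Scheme.zeroLocus_singleton, Scheme.basicOpen_zero]
      simp
    exact (genericPoint_specializes _).mem_closed (LefPen.hypIdeal G).support.isClosed
      (h1 _ ((genericPoint_specializes z).mem_open W.1.isOpen hl))
  set D := (LefPen.hypIdeal G).comap g with hDdef
  have hD : _root_.BlowUp.IsEffCartierIdeal D := HypSq28.isEffCartier_comap_dominant g hH hGη
  -- the class of the divisor
  have hLD : ClSub.IsInverseOf ((Scheme.Modules.pullback j).obj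
      ((Scheme.Modules.pullback ι).obj (Twist.twistProjSpace n k 1))) (ClSub.idealMod D) := by
    have h1 : HasCls ((Scheme.Modules.pullback j).obj ((Scheme.Modules.pullback ι).obj (Twist.twistProjSpace n k 1)))
        (pull j (pull ι (ProjPic26.tw n k 1))) :=
      ((hasCls_clsMod (ProjPic26.isInvertible_twistProjSpace n k 1)).pullback ι).pullback j
    obtain ⟨q, hq⟩ : ∃ q : D.subscheme ⟶ (LefPen.hypIdeal G).subscheme,
        q ≫ (LefPen.hypIdeal G).subschemeι = D.subschemeι ≫ g :=
      ⟨Scheme.IdealSheafData.subschemeMap D (LefPen.hypIdeal G) g ((Scheme.IdealSheafData.map_gc g).le_u_l _),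
        Scheme.IdealSheafData.subschemeMap_subschemeι _ _ _ _⟩
    have hkI := Scheme.IdealSheafData.ker_subschemeι (LefPen.hypIdeal G)
    have hkD := Scheme.IdealSheafData.ker_subschemeι D
    obtain ⟨e₁⟩ := HodgeIndex.nonempty_pullback_idealMod (LefPen.hypIdeal G).subschemeι D.subschemeι q g hq.symm
      (by rw [hkI, hkD]) (by rw [hkI]; exact IdealModSec.isInvertible_of_isEffCartier hH)
      (by rw [hkD]; exact IdealModSec.isInvertible_of_isEffCartier hD)
    rw [hkI, hkD] at e₁
    obtain ⟨e₂⟩ := CI20.nonempty_idealMod_hyp G hG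
    have hI := IdealModSec.isInvertible_of_isEffCartier hD
    have h2 : HasCls (ClSub.idealMod D) (pull g (ProjPic26.tw n k (-((1 : ℕ) : ℤ)))) := by
      refine ⟨hI, ?_⟩
      obtain ⟨hp, hpc⟩ := (hasCls_clsMod (ProjPic26.isInvertible_twistProjSpace n k (-((1 : ℕ) : ℤ)))).pullback g
      exact ((Cube.clsMod_eq_iff hI hp).2 ⟨e₁.symm ≪≫ (Scheme.Modules.pullback g).mapIso e₂⟩).trans hpc
    refine (h1.tensor h2).iso (Cube.hasCls_structureModule C) ?_
    rw [Cube.pull_comp, ← map_mul, ← ProjPic26.tw_add, Nat.cast_one, add_neg_cancel, ProjPic26.tw_eq_zpow, zpow_zero,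
      map_one]
  obtain ⟨hfin, hle⟩ := finrank_le_deg k hdimC.le hD
    (Ample.isInvertible_pullback j (Ample.isInvertible_pullback ι (ProjPic26.isInvertible_twistProjSpace n k 1))) hLD y
  rcases Nat.eq_zero_or_pos m with rfl | hm1
  · exact le_trans (by exact_mod_cast Nat.zero_le _) hle
  obtain rfl := hyP hm1
  refine le_trans ?_ hle
  let c := (CohB1.ProjSpace n k).presheaf.germ U.1 (g y) hi (LefPen.dehom G i)
  let h := (ι.stalkMap (j y)) c
  have hst : Goodman.st D y = Ideal.span {(j.stalkMap y) h} := by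
    rw [hDdef, HodgeIndex.st_comap, Goodman.st_eq _ U hi, HypSurf.hypIdeal_ideal_eq G U i le_rfl, Ample.res_self,
      Ideal.map_span, Set.image_singleton, Ideal.map_span, Set.image_singleton]
    show Ideal.span {(g.stalkMap y) c} = _
    rw [Scheme.Hom.stalkMap_comp]
    rfl
  rw [hst] at hfin ⊢
  haveI := hfin
  have hc : c ∈ IsLocalRing.maximalIdeal ((CohB1.ProjSpace n k).presheaf.stalk (g y)) := by
    rw [IsLocalRing.mem_maximalIdeal]
    intro hu
    rw [Scheme.IdealSheafData.mem_support_iff_of_mem (U := U) hi, HypSurf.hypIdeal_ideal_eq G U i le_rfl,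
      Ample.res_self, Scheme.zeroLocus_span, Scheme.zeroLocus_singleton] at hGy
    exact hGy ((Scheme.mem_basicOpen _ _ _ hi).2 hu)
  have hh : h ∈ IsLocalRing.maximalIdeal (S.presheaf.stalk (j y)) := by
    rw [IsLocalRing.mem_maximalIdeal] at hc ⊢
    exact map_nonunit (ι.stalkMap (j y)).hom c hc
  have hker : RingHom.ker (j.stalkMap y).hom ≤ IsLocalRing.maximalIdeal (S.presheaf.stalk (j y)) ^ m := by
    obtain ⟨V, hV, hyV, -⟩ := exists_isAffineOpen_mem_and_subset (show j y ∈ (⊤ : S.Opens) from trivial)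
    rw [RelReg.ker_stalkMap_eq_map j hV (IsZariskiLocalAtTarget.restrict (P := @IsClosedImmersion) ‹IsClosedImmersion j› V) y hyV,
      ← Scheme.Hom.ker_apply j ⟨V, hV⟩, ← PointIdeal16.st_ptI hP, ← Goodman.st_pow,
      Goodman.st_eq _ ⟨V, hV⟩ hyV]
    exact Ideal.map_mono (hm ⟨V, hV⟩)
  have hdim : (2 : WithBot ℕ∞) ≤ ringKrullDim (S.presheaf.stalk (j y)) := by
    rw [GrpSchField.ringKrullDim_stalk_eq_of_isClosed (S ↘ Spec (CommRingCat.of k)) isClosed_univ isOpen_univ
      (IrreducibleSpace.isIrreducible_univ S) (Set.mem_univ _) hP]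
    have h1 := FibreDimAt6.fibreDimAt_le_of_open (S ↘ Spec (CommRingCat.of k)) (j y) ⊤ trivial
    rw [FibreDimAt6.fibreDimAt_eq_of_smooth 2] at h1
    exact le_trans (by exact_mod_cast h1)
      (Topology.IsEmbedding.inclusion (Set.subset_univ _)).isInducing.topologicalKrullDim_le
  exact_mod_cast le_finrank_quotient (j.stalkMap y).hom (j.stalkMap_surjective y) hker hh hdim

end GrothLib.MultDeg12
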