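import Groth.Agent.Lib.CI20.Step
import Groth.Agent.Lib.LinesPt28.Pencil
import Groth.Agent.Lib.CITwist12.Basic
import Groth.Agent.Lib.HodgeIndex.Pullback
import Groth.Agent.Lib.HypSq28.Divisors

/-!
# A linear form through a closed point, off another point
-/

set_option autoImplicit false
set_option linter.all false
set_option backward.isDefEq.respectTransparency false
set_option maxHeartbeats 1000000

universe u

open CategoryTheory CategoryTheory.Limits AlgebraicGeometry TopologicalSpace

noncomputable section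

namespace GrothLib.MultDeg12

attribute [local instance] Curv2.resAlgebra

variable {k : Type u} [Field k] {n : ℕ}

/-- A homogeneous ideal containing `X_j - a_j X_i` for all `j` contains `f - f(a) X_i^d`. -/
theorem mk_eq_of_linear (Q : Ideal (MvPolynomial (Fin (n + 1)) k)) (a : Fin (n + 1) → k) (i : Fin (n + 1))
    (hQ : ∀ j, (MvPolynomial.X j - MvPolynomial.C (a j) * MvPolynomial.X i) ∈ Q)
    {d : ℕ} {f : MvPolynomial (Fin (n + 1)) k} (hf : f.IsHomogeneous d) :
    f - MvPolynomial.C (MvPolynomial.eval a f) * MvPolynomial.X i ^ d ∈ Q := by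
  classical
  have key : ∀ p : MvPolynomial (Fin (n + 1)) k,
      p - MvPolynomial.eval₂ MvPolynomial.C (fun j => MvPolynomial.C (a j) * MvPolynomial.X i) p ∈ Q := fun p => by
    induction p using MvPolynomial.induction_on with
    | C c => rw [MvPolynomial.eval₂_C, sub_self]; exact zero_mem _
    | add p q hp hq =>
      rw [MvPolynomial.eval₂_add, add_sub_add_comm]
      exact add_mem hp hq
    | mul_X p j hp =>
      rw [MvPolynomial.eval₂_mul, MvPolynomial.eval₂_X,
        show ∀ A B C D : MvPolynomial (Fin (n + 1)) k, A * B - C * D = (A - C) * B + C * (B - D) from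
          fun A B C D => by ring]
      exact add_mem (Ideal.mul_mem_right _ _ hp) (Ideal.mul_mem_left _ _ (hQ j))
  have e : MvPolynomial.eval₂ MvPolynomial.C (fun j => MvPolynomial.C (a j) * MvPolynomial.X i) f =
      MvPolynomial.C (MvPolynomial.eval a f) * MvPolynomial.X i ^ d := by
    rw [MvPolynomial.eval₂_eq, MvPolynomial.eval_eq, map_sum, Finset.sum_mul]
    refine Finset.sum_congr rfl fun m hm => ?_
    have hdm : ∑ j ∈ m.support, m j = d := by
      have := hf (MvPolynomial.mem_support_iff.1 hm)
      rw [Finsupp.weight_apply, Finsupp.sum] at this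
      simpa using this
    simp only [mul_pow, Finset.prod_mul_distrib, Finset.prod_pow_eq_pow_sum, hdm, map_mul, map_prod, map_pow]
    ring
  exact e ▸ key f

theorem form_single (i : Fin (n + 1)) : Tango28.form (Pi.single i (1 : k)) = MvPolynomial.X i :=
  (Fintype.linearCombination_apply_single k _ i 1).trans (one_smul _ _)

variable [IsAlgClosed k]

/-- The coordinates of a closed point in a chart. -/
theorem exists_coords {x : ↥(CohB1.ProjSpace n k)} (hx : IsClosed ({x} : Set ↥(CohB1.ProjSpace n k)))
    {i : Fin (n + 1)} (hi : x ∈ LefPen.chart n k i) :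
    ∃ a : Fin (n + 1) → k, ∀ j,
      (LinesPt28.frm (Pi.single j 1 - a j • Pi.single i 1) : LefPen.Form n k 1).1 ∈ x.asHomogeneousIdeal := by
  classical
  letI : (CohB1.ProjSpace n k).Over (Spec (CommRingCat.of k)) := ⟨CohB1.ProjSpace.toSpec n k⟩
  haveI : LocallyOfFiniteType (CohB1.ProjSpace n k ↘ Spec (CommRingCat.of k)) :=
    ProjDim.locallyOfFiniteType_toSpec k n
  have hs := CurveMult.bijective_resMap_of_section k
    (pointOfClosedPoint (CohB1.ProjSpace n k ↘ Spec (CommRingCat.of k)) x hx)
    (pointOfClosedPoint_comp _ x hx) (IsLocalRing.closedPoint k)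
  have hpt : (pointOfClosedPoint (CohB1.ProjSpace n k ↘ Spec (CommRingCat.of k)) x hx) (IsLocalRing.closedPoint k) = x := by
    simp
  rw [hpt] at hs
  let ρ : k ≃+* (CohB1.ProjSpace n k).residueField x := RingEquiv.ofBijective _ hs
  let ev' : Γ(CohB1.ProjSpace n k, LefPen.chart n k i) →+* (CohB1.ProjSpace n k).residueField x :=
    ((CohB1.ProjSpace n k).evaluation (LefPen.chart n k i) x hi).hom
  let φ : (Fin (n + 1) → k) →ₗ[k] k :=
    { toFun := fun c => ρ.symm (ev' (LefPen.dehom (LinesPt28.frm c) i))
      map_add' := fun c d => by rw [LinesPt28.dehom_add, map_add, map_add]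
      map_smul' := fun a c => by
        rw [LinesPt28.dehom_smul, map_mul, map_mul, RingHom.id_apply, smul_eq_mul]
        congr 1
        rw [RingEquiv.symm_apply_eq]
        exact HypSep5.evaluation_const _ x hi a }
  have key : ∀ c, φ c = 0 ↔ (LinesPt28.frm c : LefPen.Form n k 1).1 ∈ x.asHomogeneousIdeal := fun c => by
    rw [← CI20.mem_support_hyp]
    let U : (CohB1.ProjSpace n k).affineOpens := ⟨LefPen.chart n k i, HypSurf.isAffineOpen_chart i⟩
    rw [Scheme.IdealSheafData.mem_support_iff_of_mem (U := U) hi, HypSurf.hypIdeal_ideal_eq _ U i le_rfl,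
      Ample.res_self, Scheme.zeroLocus_span, Scheme.zeroLocus_singleton]
    show ρ.symm (ev' _) = 0 ↔ _
    rw [map_eq_zero_iff _ ρ.symm.injective]
    exact Scheme.evaluation_eq_zero_iff_notMem_basicOpen _ _ hi _
  have hXi : φ (Pi.single i 1) ≠ 0 := fun h => by
    have h1 := (key _).1 h
    rw [show (LinesPt28.frm (Pi.single i (1 : k)) : LefPen.Form n k 1).1 = MvPolynomial.X i from
      form_single i] at h1
    exact hi h1
  refine ⟨fun j => φ (Pi.single j 1) / φ (Pi.single i 1), fun j => (key _).1 ?_⟩
  rw [map_sub, map_smul, smul_eq_mul, div_mul_cancel₀ _ hXi, sub_self]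

/-- A linear form vanishing at a closed point and not at another given point. -/
theorem exists_form {x y : ↥(CohB1.ProjSpace n k)} (hx : IsClosed ({x} : Set ↥(CohB1.ProjSpace n k)))
    (hyx : y ⤳ x) (hne : y ≠ x) :
    ∃ G : LefPen.Form n k 1, x ∈ (LefPen.hypIdeal G).support ∧ y ∉ (LefPen.hypIdeal G).support := by
  classical
  obtain ⟨i, hi⟩ : ∃ i, x ∈ LefPen.chart n k i :=
    Opens.mem_iSup.1 ((Ample.ProjMap.iSup_basicOpen_X n k).ge (Opens.mem_top x))
  obtain ⟨a, ha⟩ := exists_coords hx hi
  by_contra hall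
  push Not at hall
  have hyQ : ∀ j, (MvPolynomial.X j - MvPolynomial.C (a j) * MvPolynomial.X i) ∈ y.asHomogeneousIdeal.toIdeal := fun j => by
    have h := (CI20.mem_support_hyp _ y).1 (hall (LinesPt28.frm _) ((CI20.mem_support_hyp _ x).2 (ha j)))
    rwa [show (LinesPt28.frm (Pi.single j (1 : k) - a j • Pi.single i 1) : LefPen.Form n k 1).1 =
      MvPolynomial.X j - MvPolynomial.C (a j) * MvPolynomial.X i by
        show Tango28.form _ = _
        rw [map_sub, map_smul, form_single, form_single, MvPolynomial.smul_eq_C_mul]] at h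
  have hle' : y.asHomogeneousIdeal ≤ x.asHomogeneousIdeal :=
    (ProjectiveSpectrum.le_iff_mem_closure _ y x).2 (specializes_iff_mem_closure.1 hyx)
  refine hne (ProjectiveSpectrum.ext (le_antisymm hle' fun f hf => ?_))
  rw [← DirectSum.sum_support_decompose (CohB1.polyGrading n k) f]
  refine Submodule.sum_mem _ fun d _ => ?_
  let g : MvPolynomial (Fin (n + 1)) k := DirectSum.decompose (CohB1.polyGrading n k) f d
  have hg : g.IsHomogeneous d := (DirectSum.decompose (CohB1.polyGrading n k) f d).2
  have hgx : g ∈ x.asHomogeneousIdeal.toIdeal := x.asHomogeneousIdeal.isHomogeneous d hf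
  have hgy := mk_eq_of_linear y.asHomogeneousIdeal.toIdeal a i hyQ hg
  by_cases hv : MvPolynomial.eval a g = 0
  · rw [hv, map_zero, zero_mul, sub_zero] at hgy
    exact hgy
  · refine absurd ?_ (show (MvPolynomial.X i : MvPolynomial (Fin (n + 1)) k) ∉ x.asHomogeneousIdeal.toIdeal from hi)
    refine x.isPrime.mem_of_pow_mem d ?_
    have h1 : MvPolynomial.C (MvPolynomial.eval a g) * MvPolynomial.X i ^ d ∈ x.asHomogeneousIdeal.toIdeal := by
      have h2 := Ideal.sub_mem _ hgx (hle' hgy)
      rwa [sub_sub_cancel] at h2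
    have h2 := Ideal.mul_mem_left _ (MvPolynomial.C (MvPolynomial.eval a g)⁻¹) h1
    rwa [← mul_assoc, ← map_mul, inv_mul_cancel₀ hv, map_one, one_mul] at h2

end GrothLib.MultDeg12
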